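import Mathlib

/-!
# Composite valuation rings and related algebra

* `composite B A'`: for a valuation subring `B` of a field `L` and a valuation subring `A'` of
  the residue field of `B`, the valuation subring of `L` of elements of `B` with residue in `A'`.
* `B` is the localization of `composite B A'` at the prime `𝔪_B`.
* lying over for injective local homomorphisms out of valuation rings.
* localizations of valuation rings at primes are valuation rings.
* enlarging the residue field by a dominating valuation ring.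
-/

set_option autoImplicit false

universe u

open IsLocalRing

namespace Groth.Agent.H5.Val

section Composite

variable {L : Type u} [Field L] (B : ValuationSubring L)
  (A' : ValuationSubring (ResidueField B))

private lemma inv_mem_of_isUnit {x : L} (h : x ∈ B) (hu : IsUnit (⟨x, h⟩ : B)) :
    ∃ h' : x⁻¹ ∈ B, residue B ⟨x⁻¹, h'⟩ = (residue B ⟨x, h⟩)⁻¹ := by
  obtain ⟨v, hv⟩ := hu
  have h1 : ((v⁻¹ : Bˣ) : B).1 = x⁻¹ := by
    have h2 : ((v : B) * ((v⁻¹ : Bˣ) : B)).1 = 1 := by rw [Units.mul_inv]; rfl
    rw [hv] at h2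
    change x * ((v⁻¹ : Bˣ) : B).1 = 1 at h2
    exact eq_inv_of_mul_eq_one_right h2
  have h' : x⁻¹ ∈ B := h1 ▸ ((v⁻¹ : Bˣ) : B).2
  refine ⟨h', ?_⟩
  have h3 : (⟨x⁻¹, h'⟩ : B) = ((v⁻¹ : Bˣ) : B) := Subtype.ext h1.symm
  rw [h3, ← hv]
  have h4 : residue B (v : B) * residue B ((v⁻¹ : Bˣ) : B) = 1 := by
    rw [← map_mul, Units.mul_inv, map_one]
  exact eq_inv_of_mul_eq_one_right h4

/-- The composite of a valuation subring `B` with a valuation subring of its residue field. -/
def composite : ValuationSubring L where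
  carrier := {x | ∃ h : x ∈ B, residue B ⟨x, h⟩ ∈ A'}
  mul_mem' := by
    rintro x y ⟨hx, hx'⟩ ⟨hy, hy'⟩
    refine ⟨B.mul_mem _ _ hx hy, ?_⟩
    have : (⟨x * y, B.mul_mem _ _ hx hy⟩ : B) = ⟨x, hx⟩ * ⟨y, hy⟩ := rfl
    rw [this, map_mul]
    exact A'.mul_mem _ _ hx' hy'
  one_mem' := ⟨B.one_mem, by
    have : (⟨1, B.one_mem⟩ : B) = 1 := rfl
    rw [this, map_one]
    exact A'.one_mem⟩
  add_mem' := by
    rintro x y ⟨hx, hx'⟩ ⟨hy, hy'⟩
    refine ⟨B.add_mem _ _ hx hy, ?_⟩
    have : (⟨x + y, B.add_mem _ _ hx hy⟩ : B) = ⟨x, hx⟩ + ⟨y, hy⟩ := rfl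
    rw [this, map_add]
    exact A'.add_mem _ _ hx' hy'
  zero_mem' := ⟨B.zero_mem, by
    have : (⟨0, B.zero_mem⟩ : B) = 0 := rfl
    rw [this, map_zero]
    exact A'.zero_mem⟩
  neg_mem' := by
    rintro x ⟨hx, hx'⟩
    refine ⟨B.neg_mem _ hx, ?_⟩
    have : (⟨-x, B.neg_mem _ hx⟩ : B) = -⟨x, hx⟩ := rfl
    rw [this, map_neg]
    exact A'.neg_mem _ hx'
  mem_or_inv_mem' := by
    have key : ∀ x : L, x ∈ B → (∃ h : x ∈ B, residue B ⟨x, h⟩ ∈ A') ∨
        (∃ h : x⁻¹ ∈ B, residue B ⟨x⁻¹, h⟩ ∈ A') := by
      intro x h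
      by_cases hu : IsUnit (⟨x, h⟩ : B)
      · obtain ⟨h', hres⟩ := inv_mem_of_isUnit B h hu
        rcases A'.mem_or_inv_mem (residue B ⟨x, h⟩) with h1 | h1
        · exact Or.inl ⟨h, h1⟩
        · exact Or.inr ⟨h', by rw [hres]; exact h1⟩
      · refine Or.inl ⟨h, ?_⟩
        have : residue B ⟨x, h⟩ = 0 := (residue_eq_zero_iff _).2 ((mem_maximalIdeal _).2 hu)
        rw [this]
        exact A'.zero_mem
    intro x
    rcases B.mem_or_inv_mem x with h | h
    · exact key x h
    · rcases key x⁻¹ h with h1 | h1
      · exact Or.inr h1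
      · rw [inv_inv] at h1
        exact Or.inl h1

lemma mem_composite_iff {x : L} :
    x ∈ composite B A' ↔ ∃ h : x ∈ B, residue B ⟨x, h⟩ ∈ A' := Iff.rfl

lemma composite_le : composite B A' ≤ B := fun _ hx => hx.1

/-- The inclusion of the composite in `B`. -/
def compositeIncl : composite B A' →+* B := Subring.inclusion (composite_le B A')

@[simp] lemma compositeIncl_coe (c : composite B A') : ((compositeIncl B A' c : B) : L) = c := rfl

lemma compositeIncl_injective : Function.Injective (compositeIncl B A') := by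
  intro a b h
  exact Subtype.ext (congrArg (fun z : B => (z : L)) h)

lemma residue_compositeIncl_mem (c : composite B A') :
    residue B (compositeIncl B A' c) ∈ A' := by
  obtain ⟨h, h'⟩ := c.2
  exact h'

/-- The residue map from the composite onto `A'`. -/
noncomputable def toRes : composite B A' →+* A' :=
  ((residue B).comp (compositeIncl B A')).codRestrict A'.toSubring
    (residue_compositeIncl_mem B A')

@[simp] lemma toRes_coe (c : composite B A') :
    ((toRes B A' c : A') : ResidueField B) = residue B (compositeIncl B A' c) := rfl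

lemma toRes_surjective : Function.Surjective (toRes B A') := by
  rintro ⟨a, ha⟩
  obtain ⟨b, rfl⟩ := residue_surjective a
  exact ⟨⟨b.1, b.2, ha⟩, Subtype.ext rfl⟩

lemma mem_composite_of_mem_maximalIdeal {b : B} (hb : b ∈ maximalIdeal B) :
    (b : L) ∈ composite B A' := by
  refine ⟨b.2, ?_⟩
  have : residue B ⟨b.1, b.2⟩ = 0 := (residue_eq_zero_iff _).2 hb
  rw [this]
  exact A'.zero_mem

lemma mem_or_inv_mem_composite (b : B) :
    (b : L) ∈ composite B A' ∨
      (IsUnit b ∧ ((b : L)⁻¹ ∈ composite B A')) := by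
  by_cases hu : IsUnit b
  · obtain ⟨h', hres⟩ := inv_mem_of_isUnit B b.2 hu
    rcases A'.mem_or_inv_mem (residue B ⟨b.1, b.2⟩) with h1 | h1
    · exact Or.inl ⟨b.2, h1⟩
    · exact Or.inr ⟨hu, h', by rw [hres]; exact h1⟩
  · exact Or.inl (mem_composite_of_mem_maximalIdeal B A' ((mem_maximalIdeal _).2 hu))

lemma isUnit_of_isUnit_toRes {c : composite B A'} (h : IsUnit (toRes B A' c)) : IsUnit c := by
  have h1 : IsUnit (residue B (compositeIncl B A' c)) := by
    have := h.map A'.subtype
    exact this
  have hu : IsUnit (compositeIncl B A' c) := by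
    by_contra hn
    have : residue B (compositeIncl B A' c) = 0 :=
      (residue_eq_zero_iff _).2 ((mem_maximalIdeal _).2 hn)
    rw [this] at h1
    exact not_isUnit_zero h1
  obtain ⟨h', hres⟩ := inv_mem_of_isUnit B (compositeIncl B A' c).2 hu
  have hinv : (c : L)⁻¹ ∈ composite B A' := by
    refine ⟨h', ?_⟩
    refine hres ▸ ?_
    obtain ⟨v, hv⟩ := h
    have h2 : ((v⁻¹ : A'ˣ) : A').1 = (residue B (compositeIncl B A' c))⁻¹ := by
      have h3 : ((v : A') * ((v⁻¹ : A'ˣ) : A')).1 = 1 := by rw [Units.mul_inv]; rfl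
      rw [hv] at h3
      exact eq_inv_of_mul_eq_one_right h3
    exact h2 ▸ ((v⁻¹ : A'ˣ) : A').2
  have hc0 : (c : L) ≠ 0 := by
    intro h0
    have : compositeIncl B A' c = 0 := Subtype.ext h0
    rw [this] at hu
    exact not_isUnit_zero hu
  refine ⟨⟨c, ⟨_, hinv⟩, ?_, ?_⟩, rfl⟩
  · exact Subtype.ext (mul_inv_cancel₀ hc0)
  · exact Subtype.ext (inv_mul_cancel₀ hc0)

instance : IsLocalHom (toRes B A') := ⟨fun _ h => isUnit_of_isUnit_toRes B A' h⟩

/-- The prime of the composite cut out by the maximal ideal of `B`. -/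
def compositePrime : Ideal (composite B A') := (maximalIdeal B).comap (compositeIncl B A')

instance : (compositePrime B A').IsPrime := Ideal.comap_isPrime _ _

lemma mem_compositePrime_iff {c : composite B A'} :
    c ∈ compositePrime B A' ↔ toRes B A' c = 0 := by
  change compositeIncl B A' c ∈ maximalIdeal B ↔ _
  rw [← residue_eq_zero_iff]
  constructor
  · intro h
    exact Subtype.ext h
  · intro h
    exact congrArg Subtype.val h

/-- `B` is the localization of the composite at the prime `𝔪_B`. -/
theorem isLocalization_composite :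
    letI : Algebra (composite B A') B := (compositeIncl B A').toAlgebra
    IsLocalization.AtPrime B (compositePrime B A') := by
  letI : Algebra (composite B A') B := (compositeIncl B A').toAlgebra
  refine ⟨?_, ?_, ?_⟩
  · rintro ⟨c, hc⟩
    change IsUnit (compositeIncl B A' c)
    by_contra hn
    exact hc ((mem_maximalIdeal _).2 hn)
  · intro b
    rcases mem_or_inv_mem_composite B A' b with h | ⟨hu, h⟩
    · exact ⟨(⟨b.1, h⟩, 1), by
        change b * compositeIncl B A' 1 = compositeIncl B A' ⟨b.1, h⟩
        rw [map_one, mul_one]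
        exact Subtype.ext rfl⟩
    · have hb0 : (b : L) ≠ 0 := by
        intro h0
        have : b = 0 := Subtype.ext h0
        rw [this] at hu
        exact not_isUnit_zero hu
      have hmem : (⟨(b : L)⁻¹, h⟩ : composite B A') ∈ (compositePrime B A').primeCompl := by
        intro hm
        have hm' : compositeIncl B A' ⟨(b : L)⁻¹, h⟩ ∈ maximalIdeal B := hm
        have h1 : b * compositeIncl B A' ⟨(b : L)⁻¹, h⟩ = 1 :=
          Subtype.ext (mul_inv_cancel₀ hb0)
        have : (1 : B) ∈ maximalIdeal B := h1 ▸ Ideal.mul_mem_left _ b hm'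
        exact (Ideal.ne_top_iff_one _).1 (maximalIdeal.isMaximal B).ne_top this
      exact ⟨(1, ⟨_, hmem⟩), by
        change b * compositeIncl B A' ⟨(b : L)⁻¹, h⟩ = compositeIncl B A' 1
        rw [map_one]
        exact Subtype.ext (mul_inv_cancel₀ hb0)⟩
  · intro x y h
    exact ⟨1, by rw [compositeIncl_injective B A' h]⟩

/-- Ring homomorphisms out of `B` are determined by their restriction to the composite. -/
theorem ringHom_ext_composite {R : Type*} [Semiring R] {f g : B →+* R}
    (h : f.comp (compositeIncl B A') = g.comp (compositeIncl B A')) : f = g := by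
  letI : Algebra (composite B A') B := (compositeIncl B A').toAlgebra
  have := isLocalization_composite B A'
  exact IsLocalization.ringHom_ext (compositePrime B A').primeCompl h

/-- The map induced on localizations by a ring map out of the composite, for a prime lying over
the prime `𝔪_B` of the composite. -/
theorem exists_map_of_comap_eq {R'' : Type u} [CommRing R''] (φ : composite B A' →+* R'')
    (p'' : Ideal R'') [p''.IsPrime] (hp'' : p''.comap φ = compositePrime B A') :
    ∃ θ : B →+* Localization.AtPrime p'',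
      θ.comp (compositeIncl B A') = (algebraMap R'' (Localization.AtPrime p'')).comp φ ∧
        IsLocalHom θ := by
  letI : Algebra (composite B A') B := (compositeIncl B A').toAlgebra
  have hBloc := isLocalization_composite B A'
  have hle : (compositePrime B A').primeCompl ≤ p''.primeCompl.comap φ := by
    intro c hc hc'
    apply hc
    rw [← hp'']
    exact hc'
  let θ : B →+* Localization.AtPrime p'' :=
    IsLocalization.map (M := (compositePrime B A').primeCompl) (T := p''.primeCompl)
      (Localization.AtPrime p'') φ hle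
  have hθ : ∀ c : composite B A',
      θ (compositeIncl B A' c) = algebraMap R'' (Localization.AtPrime p'') (φ c) := fun c =>
    IsLocalization.map_eq hle c
  refine ⟨θ, RingHom.ext hθ, ⟨fun b hb => ?_⟩⟩
  obtain ⟨⟨c, s⟩, hcs⟩ := IsLocalization.surj (compositePrime B A').primeCompl b
  have hcs' : b * compositeIncl B A' s.1 = compositeIncl B A' c := hcs
  have hs : IsUnit (θ (compositeIncl B A' s.1)) := by
    rw [hθ]
    exact IsLocalization.map_units (Localization.AtPrime p'') (⟨φ s.1, hle s.2⟩ : p''.primeCompl)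
  have hc : IsUnit (algebraMap R'' (Localization.AtPrime p'') (φ c)) := by
    rw [← hθ, ← hcs', map_mul]
    exact hb.mul hs
  have hc' : φ c ∈ p''.primeCompl :=
    (IsLocalization.AtPrime.isUnit_to_map_iff (Localization.AtPrime p'') p'' (φ c)).1 hc
  have hc'' : c ∈ (compositePrime B A').primeCompl := by
    intro hm
    apply hc'
    have : c ∈ p''.comap φ := hp'' ▸ hm
    exact this
  have hcu : IsUnit (compositeIncl B A' c) :=
    IsLocalization.map_units B (⟨c, hc''⟩ : (compositePrime B A').primeCompl)
  rw [← hcs'] at hcu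
  exact isUnit_of_mul_isUnit_left hcu

end Composite

section LyingOver

/-- Lying over for an injective local homomorphism from a valuation ring to a local domain. -/
theorem exists_isPrime_comap_eq {C C'' : Type u} [CommRing C] [IsDomain C] [ValuationRing C]
    [CommRing C''] [IsDomain C''] [IsLocalRing C''] (φ : C →+* C'')
    (hinj : Function.Injective φ) [hloc : IsLocalHom φ] (p : Ideal C) [p.IsPrime] :
    ∃ p'' : Ideal C'', p''.IsPrime ∧ p''.comap φ = p := by
  letI : Algebra C C'' := φ.toAlgebra
  have hflat : Module.Flat C C'' := by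
    rw [Module.Flat.flat_iff_torsion_eq_bot_of_isBezout, Submodule.eq_bot_iff]
    intro b hb
    rw [Submodule.mem_torsion_iff] at hb
    obtain ⟨a, ha⟩ := hb
    have h1 : φ a.1 * b = 0 := by
      have : (a : C) • b = φ a.1 * b := by rw [Algebra.smul_def]; rfl
      have h2 : a • b = (a : C) • b := rfl
      rw [← this, ← h2, ha]
    have h3 : φ a.1 ≠ 0 := by
      intro h0
      exact nonZeroDivisors.ne_zero a.2 (hinj (h0.trans (map_zero φ).symm))
    exact (mul_eq_zero.1 h1).resolve_left h3
  have : IsLocalHom (algebraMap C C'') := hloc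
  have : Module.FaithfullyFlat C C'' := Module.FaithfullyFlat.of_flat_of_isLocalHom
  obtain ⟨P, hP, hPp⟩ := Ideal.exists_isPrime_liesOver_of_faithfullyFlat (B := C'') p
  exact ⟨P, hP, hPp.over.symm⟩

end LyingOver

section Localization

/-- A localization of a valuation ring which is a domain is a valuation ring. -/
theorem valuationRing_of_isLocalization {R : Type u} [CommRing R] [IsDomain R] [ValuationRing R]
    (M : Submonoid R) (R' : Type u) [CommRing R'] [IsDomain R'] [Algebra R R']
    [IsLocalization M R'] : ValuationRing R' := by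
  have : PreValuationRing R' := by
    refine ⟨fun x y => ?_⟩
    obtain ⟨a, s, rfl⟩ := IsLocalization.exists_mk'_eq M x
    obtain ⟨b, t, rfl⟩ := IsLocalization.exists_mk'_eq M y
    obtain ⟨c, hc | hc⟩ := ValuationRing.cond a b
    · refine ⟨IsLocalization.mk' R' (c * s) t, Or.inl ?_⟩
      rw [← IsLocalization.mk'_mul, ← hc]
      rw [IsLocalization.mk'_eq_iff_eq]
      congr 1
      simp only [Submonoid.coe_mul]
      ring
    · refine ⟨IsLocalization.mk' R' (c * t) s, Or.inr ?_⟩
      rw [← IsLocalization.mk'_mul, ← hc]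
      rw [IsLocalization.mk'_eq_iff_eq]
      congr 1
      simp only [Submonoid.coe_mul]
      ring
  exact ValuationRing.mk

end Localization

section ResidueExt

/-- **Dominating a local ring by a valuation ring with a prescribed residue field extension.**
Given a local ring `R₁`, a ring map `ρ` to a field `L₀` and a local ring map `π` to a field `Ω`,
there are a field extension `L₁` of `L₀` and a valuation subring `B` of `L₁` receiving `R₁`
compatibly with `ρ`, whose residue field receives `Ω` compatibly with `π`. -/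
theorem exists_valuationSubring_residue_ext {R₁ L₀ Ω : Type u} [CommRing R₁] [IsLocalRing R₁]
    [Field L₀] [Field Ω] (ρ : R₁ →+* L₀) (π : R₁ →+* Ω) [hπ : IsLocalHom π] :
    ∃ (L₁ : Type u) (_ : Field L₁) (ι : L₀ →+* L₁) (B : ValuationSubring L₁) (θ : R₁ →+* B)
      (ω : Ω →+* ResidueField B),
      (algebraMap B L₁).comp θ = ι.comp ρ ∧ (residue B).comp θ = ω.comp π := by
  -- kernel of `ρ` is contained in the kernel of `π`
  have hker : ∀ x : R₁, ρ x = 0 → π x = 0 := by
    intro x hx
    by_contra hne
    have hu : IsUnit x := hπ.map_nonunit x (isUnit_iff_ne_zero.2 hne)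
    have := hu.map ρ
    rw [hx] at this
    exact not_isUnit_zero this
  let R₃ := MvPolynomial Ω R₁
  let L₁ := FractionRing (MvPolynomial Ω L₀)
  let m₁ : R₃ →+* L₁ := (algebraMap (MvPolynomial Ω L₀) L₁).comp (MvPolynomial.map ρ)
  let ev : R₃ →+* Ω := MvPolynomial.eval₂Hom π id
  have hevsurj : Function.Surjective ev := fun x => ⟨MvPolynomial.X x, by
    change MvPolynomial.eval₂ π id (MvPolynomial.X x) = x
    rw [MvPolynomial.eval₂_X]
    rfl⟩
  have hkerpoly : ∀ s : R₃, m₁ s = 0 → ev s = 0 := by
    intro s hs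
    have h0 : MvPolynomial.map ρ s = 0 :=
      (IsFractionRing.injective (MvPolynomial Ω L₀) L₁) (hs.trans (map_zero _).symm)
    change MvPolynomial.eval₂ π id s = 0
    rw [MvPolynomial.eval₂_eq]
    apply Finset.sum_eq_zero
    intro d _
    have : ρ (MvPolynomial.coeff d s) = 0 := by
      rw [← MvPolynomial.coeff_map, h0, MvPolynomial.coeff_zero]
    rw [hker _ this, zero_mul]
  let P : Ideal R₃ := RingHom.ker ev
  have hP : P.IsPrime := RingHom.ker_isPrime ev
  have hunits : ∀ s : P.primeCompl, IsUnit (m₁ s) := by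
    rintro ⟨s, hs⟩
    rw [isUnit_iff_ne_zero]
    intro h0
    exact hs ((RingHom.mem_ker).2 (hkerpoly s h0))
  let m₂ : Localization.AtPrime P →+* L₁ := IsLocalization.lift hunits
  obtain ⟨B, hB, hBloc⟩ := IsLocalRing.exists_factor_valuationRing m₂
  let m₂' : Localization.AtPrime P →+* B := m₂.codRestrict B.toSubring hB
  let θ₃ : R₃ →+* B := m₂'.comp (algebraMap R₃ (Localization.AtPrime P))
  have hθ₃ : ∀ s, ((θ₃ s : B) : L₁) = m₁ s := by
    intro s
    change m₂ (algebraMap R₃ (Localization.AtPrime P) s) = m₁ s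
    exact IsLocalization.lift_eq hunits s
  let g : R₃ →+* ResidueField B := (residue B).comp θ₃
  have hg : RingHom.ker ev ≤ RingHom.ker g := by
    intro s hs
    rw [RingHom.mem_ker]
    change residue B (θ₃ s) = 0
    rw [residue_eq_zero_iff, mem_maximalIdeal]
    intro hu
    have h1 : IsUnit (algebraMap R₃ (Localization.AtPrime P) s) := hBloc.map_nonunit _ hu
    have h2 := (IsLocalization.AtPrime.isUnit_to_map_iff (Localization.AtPrime P) P s).1 h1
    exact h2 hs
  let ω : Ω →+* ResidueField B := ev.liftOfSurjective hevsurj ⟨g, hg⟩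
  have hω : ω.comp ev = g := ev.liftOfRightInverse_comp _ _ ⟨g, hg⟩
  refine ⟨L₁, inferInstance, (algebraMap (MvPolynomial Ω L₀) L₁).comp MvPolynomial.C, B,
    θ₃.comp MvPolynomial.C, ω, ?_, ?_⟩
  · ext r
    change ((θ₃ (MvPolynomial.C r) : B) : L₁) = _
    rw [hθ₃]
    change algebraMap (MvPolynomial Ω L₀) L₁ (MvPolynomial.map ρ (MvPolynomial.C r)) = _
    rw [MvPolynomial.map_C]
    rfl
  · rw [← RingHom.comp_assoc]
    change g.comp MvPolynomial.C = _
    rw [← hω, RingHom.comp_assoc]
    congr 1
    ext r
    change MvPolynomial.eval₂ π id (MvPolynomial.C r) = π r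
    rw [MvPolynomial.eval₂_C]

end ResidueExt

end Groth.Agent.H5.Val
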