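import Mathlib
import Groth.Agent.Lib.Helper8.DVRDominate

/-!
# Approximating a valuation ring by a discrete valuation ring

Let `R₀` be a Noetherian ring, `φ : R₀ → L` a ring map to a field which is finitely generated
over the image, `V₁` a valuation ring of `L` containing the image, and `py` a prime of `R₀`
containing the contraction of the maximal ideal of `V₁` (and not equal to the kernel of `φ`).
Given finitely many elements of the maximal ideal of `V₁` there is a discrete valuation ring of
`L` containing the image of `φ`, centred at `py`, whose maximal ideal contains the given elements.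
-/

set_option autoImplicit false

universe u

open IsLocalRing

namespace Groth.Agent.H5.Val

theorem exists_dvr_approx {R₀ : Type u} [CommRing R₀] [IsNoetherianRing R₀] {L : Type u} [Field L]
    (φ : R₀ →+* L) (V₁ : ValuationSubring L) (hφ : ∀ r, φ r ∈ V₁)
    (py : Ideal R₀) [hpy : py.IsPrime]
    (hle : ∀ r, φ r ∈ V₁.nonunits → r ∈ py)
    (hne : ∃ r ∈ py, φ r ≠ 0)
    (G : Finset L) (hG : ∀ g ∈ G, g ∈ V₁.nonunits)
    (s : Finset L) (hs : Subfield.closure (Set.range φ ∪ s) = ⊤) :
    ∃ V : ValuationSubring L, IsDiscreteValuationRing V ∧ (∀ r, φ r ∈ V) ∧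
      (∀ r, φ r ∈ V.nonunits ↔ r ∈ py) ∧ ∀ g ∈ G, g ∈ V.nonunits := by
  classical
  let ψ : MvPolynomial G R₀ →+* L := MvPolynomial.eval₂Hom φ (fun g => g.1)
  let p : Ideal (MvPolynomial G R₀) := py.comap MvPolynomial.constantCoeff
  have hp : p.IsPrime := Ideal.comap_isPrime _ _
  -- the key estimate
  have key : ∀ F : MvPolynomial G R₀, ψ F ∈ V₁ ∧
      ψ F - φ (MvPolynomial.constantCoeff F) ∈ V₁.nonunits := by
    intro F
    induction F using MvPolynomial.induction_on with
    | C r =>
      refine ⟨?_, ?_⟩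
      · simpa [ψ] using hφ r
      · simp [ψ, V₁.nonunits.zero_mem]
    | add F F' hF hF' =>
      refine ⟨?_, ?_⟩
      · rw [map_add]; exact V₁.add_mem _ _ hF.1 hF'.1
      · have : ψ (F + F') - φ (MvPolynomial.constantCoeff (F + F')) =
            (ψ F - φ (MvPolynomial.constantCoeff F)) +
              (ψ F' - φ (MvPolynomial.constantCoeff F')) := by
          rw [map_add, map_add, map_add]; ring
        rw [this]
        exact V₁.nonunits.add_mem hF.2 hF'.2
    | mul_X F g hF =>
      have hg : ψ (MvPolynomial.X g) = g.1 := by simp [ψ]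
      have hgn : g.1 ∈ V₁.nonunits := hG g.1 g.2
      have hmem : ψ F * g.1 ∈ V₁.nonunits := by
        rw [ValuationSubring.mem_nonunits_iff, map_mul]
        have h1 : V₁.valuation (ψ F) ≤ 1 := (V₁.valuation_le_one_iff _).2 hF.1
        have h2 : V₁.valuation g.1 < 1 := (ValuationSubring.mem_nonunits_iff _).1 hgn
        calc V₁.valuation (ψ F) * V₁.valuation g.1 ≤ 1 * V₁.valuation g.1 :=
              mul_le_mul_left h1 _
          _ = V₁.valuation g.1 := one_mul _
          _ < 1 := h2
      refine ⟨?_, ?_⟩
      · rw [map_mul, hg]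
        exact V₁.nonunits_subset hmem
      · have : MvPolynomial.constantCoeff (F * MvPolynomial.X g) = 0 := by simp
        rw [this, map_zero, sub_zero, map_mul, hg]
        exact hmem
  have hker : RingHom.ker ψ ≤ p := by
    intro F hF
    rw [RingHom.mem_ker] at hF
    change MvPolynomial.constantCoeff F ∈ py
    apply hle
    have h2 := (key F).2
    rw [hF, zero_sub] at h2
    have := V₁.nonunits.neg_mem h2
    rwa [neg_neg] at this
  have hlt : RingHom.ker ψ < p := by
    refine lt_of_le_of_ne hker ?_
    intro heq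
    obtain ⟨r, hr, hr0⟩ := hne
    have h1 : MvPolynomial.C r ∈ p := by
      change MvPolynomial.constantCoeff (MvPolynomial.C r) ∈ py
      simpa using hr
    rw [← heq, RingHom.mem_ker] at h1
    apply hr0
    simpa [ψ] using h1
  have hs' : Subfield.closure (Set.range ψ ∪ s) = ⊤ := by
    rw [eq_top_iff, ← hs]
    apply Subfield.closure_mono
    apply Set.union_subset_union_left
    rintro _ ⟨r, rfl⟩
    exact ⟨MvPolynomial.C r, by simp [ψ]⟩
  obtain ⟨B, hBdvr, hB, hcomap⟩ :=
    Groth.Agent.H8.KA.exists_dvr_valuationSubring_of_lt ψ p hlt s hs'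
  have hmem : ∀ F : MvPolynomial G R₀, ψ F ∈ B.nonunits ↔ F ∈ p := by
    intro F
    rw [← hcomap, Ideal.mem_comap, ← ValuationSubring.coe_mem_nonunits_iff]
    rfl
  have hC : ∀ r, ψ (MvPolynomial.C r) = φ r := fun r => by simp [ψ]
  refine ⟨B, hBdvr, fun r => hC r ▸ hB _, fun r => ?_, fun g hg => ?_⟩
  · rw [← hC, hmem]
    change MvPolynomial.constantCoeff (MvPolynomial.C r) ∈ py ↔ _
    simp
  · have h1 : ψ (MvPolynomial.X (⟨g, hg⟩ : G)) = g := by simp [ψ]
    rw [← h1, hmem]
    change MvPolynomial.constantCoeff (MvPolynomial.X (⟨g, hg⟩ : G)) ∈ py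
    simp

end Groth.Agent.H5.Val
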