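import Mathlib

/-!
# Points of a finite algebra over a field with values in field extensions

For a finite algebra `M` over a field `K` there is a finite extension `L` of `K` such that every
`K`-algebra map from `M` to a field extension `L'` of `L` takes its values in `L`.
-/

set_option autoImplicit false

universe u

open Polynomial

namespace Groth.Agent.H5.Val

theorem exists_finite_ext_algHom (K : Type u) [Field K] (M : Type u) [CommRing M] [Algebra K M]
    [Module.Finite K M] :
    ∃ (L : Type u) (_ : Field L) (_ : Algebra K L), FiniteDimensional K L ∧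
      ∀ (L' : Type u) [Field L'] (ι' : L →+* L') (τ' : M →+* L'),
        τ'.comp (algebraMap K M) = ι'.comp (algebraMap K L) →
        ∃ τ : M →ₐ[K] L, τ' = ι'.comp τ.toRingHom := by
  classical
  obtain ⟨s, hs⟩ := (Module.Finite.fg_top : (⊤ : Submodule K M).FG)
  have hint : Algebra.IsIntegral K M := inferInstance
  let f : K[X] := ∏ b ∈ s, minpoly K b
  have hf0 : f ≠ 0 := by
    rw [Finset.prod_ne_zero_iff]
    intro b _
    exact minpoly.ne_zero (Algebra.IsIntegral.isIntegral b)
  refine ⟨f.SplittingField, inferInstance, inferInstance, inferInstance, ?_⟩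
  intro L' _ ι' τ' hτ'
  let _ : Algebra K L' := (ι'.comp (algebraMap K f.SplittingField)).toAlgebra
  let _ : Algebra f.SplittingField L' := ι'.toAlgebra
  have : IsScalarTower K f.SplittingField L' := IsScalarTower.of_algebraMap_eq (fun _ => rfl)
  let τ'A : M →ₐ[K] L' := { τ' with commutes' := fun r => RingHom.congr_fun hτ' r }
  let g : f.SplittingField →ₐ[K] L' := IsScalarTower.toAlgHom K f.SplittingField L'
  have hroot : ∀ b ∈ s, τ'A b ∈ g.range := by
    intro b hb
    have h1 : τ'A b ∈ f.rootSet L' := by
      rw [mem_rootSet]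
      refine ⟨hf0, ?_⟩
      rw [aeval_algHom_apply]
      have hdvd : minpoly K b ∣ f := Finset.dvd_prod_of_mem _ hb
      obtain ⟨c, hc⟩ := hdvd
      rw [hc, map_mul, minpoly.aeval, zero_mul, map_zero]
    rw [← (SplittingField.splits f).image_rootSet g] at h1
    obtain ⟨z, -, hz⟩ := h1
    exact ⟨z, hz⟩
  have hrange : ∀ x : M, τ'A x ∈ g.range := by
    intro x
    have hx : x ∈ Submodule.span K (s : Set M) := hs ▸ Submodule.mem_top
    induction hx using Submodule.span_induction with
    | mem b hb => exact hroot b hb
    | zero => rw [map_zero]; exact g.range.zero_mem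
    | add a b _ _ ha hb => rw [map_add]; exact g.range.add_mem ha hb
    | smul r a _ ha =>
      rw [map_smul]
      exact g.range.smul_mem ha r
  let e : f.SplittingField ≃ₐ[K] g.range := AlgEquiv.ofInjective g g.injective
  refine ⟨e.symm.toAlgHom.comp (τ'A.codRestrict g.range hrange), ?_⟩
  ext x
  change τ' x = g (e.symm ⟨τ'A x, hrange x⟩)
  have : (e (e.symm ⟨τ'A x, hrange x⟩) : L') = τ'A x := by rw [AlgEquiv.apply_symm_apply]
  exact this.symm

end Groth.Agent.H5.Val
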